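import Groth.Agent.Lib.LineNeg29.Main
import Groth.Agent.Lib.Artin29.Final

/-!
# A globally generated module contracting exactly a negative line
-/

set_option autoImplicit false
set_option linter.all false
set_option backward.isDefEq.respectTransparency false

universe u

open CategoryTheory CategoryTheory.Limits AlgebraicGeometry TopologicalSpace IsLocalRing
open GrothLib.Cube (clsMod)

noncomputable section

namespace GrothLib.LineNeg29

variable {R : Type u} [CommRing R] [IsDomain R] [IsDiscreteValuationRing R]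
  {X : Over (Spec (CommRingCat.of R))} (hX : ArSurf.IsArithSurface R X) [IsProper X.hom] [IsLocallyNoetherian X.left] [Flat X.hom]
  (E : ArSurf.VertComp R X) {k' : Type u} [Field k'] [Algebra (ResidueField R) k']
  (e : E.curve.left ≅ CohB1.ProjSpace 1 k')
  (he : e.hom ≫ CohB1.ProjSpace.toSpec 1 k' ≫
    Spec.map (CommRingCat.ofHom (algebraMap (ResidueField R) k')) = E.curve.hom)
  {LE : X.left.Modules} (hLE : ClSub.IsInverseOf LE (ClSub.idealMod E.ι.ker))
  (hneg : ArSurf.inter R X LE E < 0)
include hX he hLE hneg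

theorem exists_contracting_module :
    ∃ (N : X.left.Modules) (_ : PicF.IsInvertible N), Curv2.IsGloballyGenerated N ∧
      0 < ArSurf.curveDeg (FractionRing R) ((Neron.genericFibre R).obj X).left
        ((Scheme.Modules.pullback (pullback.fst X.hom (Neron.genPt R))).obj N) ∧
      ∀ E' : ArSurf.VertComp R X,
        Nonempty ((Scheme.Modules.pullback E'.ι).obj N ≅ Coh.structureModule E'.curve.left) ↔
          ∃ _i : Fin 1, Set.range (E'.ι.base : E'.curve.left → X.left) = Set.range E.ι.base := by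
  obtain ⟨δ, hj, hLEi, hδ, hw, hint, hcls, ht⟩ := exists_line_data hX E e he hLE hneg
  obtain ⟨H, hH⟩ := Artin29.exists_ample hX
  letI : X.left.Over (Spec (CommRingCat.of R)) := ⟨X.hom⟩
  haveI : IsProper (X.left ↘ Spec (CommRingCat.of R)) := inferInstanceAs (IsProper X.hom)
  haveI := hX.2.1
  obtain ⟨a, ha1, haH⟩ := Contract29.exists_degree_pos (e.inv ≫ E.ι) hH
  obtain ⟨K, hK, hcover⟩ := Contract29.exists_ample_cover hH
  obtain ⟨n₀, hn₀⟩ := SerreVanish.exists_forall_subsingleton R hH
    (Euler.isCoh_of_isInvertible (Euler.isInvertible_structure (X := X.left)))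
  set h := clsMod hH.1 with hh
  let q := (n₀ + 1) * δ
  have hq : 0 < q := Nat.mul_pos (Nat.succ_pos _) hδ
  let m := K * q
  have hm : n₀ ≤ m :=
    ((Nat.le_succ n₀).trans (Nat.le_mul_of_pos_right _ hδ)).trans (Nat.le_mul_of_pos_left _ hK)
  let r := K * (n₀ + 1) * a
  have hP := Ample.isInvertible_tensorPow hH.1 m
  let M := CohB1.tensorMod (Coh.structureModule X.left) (CohB1.tensorPow H m)
  have hM : PicF.IsInvertible M := Ample.isInvertible_tensorMod Euler.isInvertible_structure hP
  have hMc : clsMod hM = h ^ m := by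
    rw [Cube.clsMod_tensorMod Euler.isInvertible_structure hP, Cube.clsMod_tensorPow hH.1,
      (Cube.clsMod_eq_one_iff Euler.isInvertible_structure).2 ⟨Iso.refl _⟩, one_mul]
  have hM1 : Subsingleton (Coh.HH X.left M 1) := hn₀ m hm 1 le_rfl
  obtain ⟨t, σ, W, -, hWcov, hσ⟩ := hcover q hq M hM hMc
  have hMgg : Curv2.IsGloballyGenerated M := by
    obtain ⟨c, ⟨u⟩⟩ := Ample.exists_cocycle hM
    refine Ample.isGloballyGenerated_of_iso u.symm (c.isGloballyGenerated_of_generated fun p => ?_)
    obtain ⟨l, hl⟩ := Opens.mem_iSup.1 (hWcov.ge (Opens.mem_top p))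
    exact ⟨u.hom.app ⊤ (σ l), (Contract29.gen_iff_le_locus c u (σ l) (W l)).1 ((hσ l (W l)).2 le_rfl) hl⟩
  have hMint : ArSurf.inter R X M E = (r : ℤ) * (-ArSurf.inter R X LE E) := by
    rw [inter_eq_mul E e he hM ((a : ℤ) * m) (by rw [hMc, map_pow, haH, ← zpow_natCast _ m, ← zpow_mul]), hint]
    simp only [r, m, q]
    push_cast
    ring
  obtain ⟨N, hN, hNc⟩ := Contract29.exists_mod (clsMod hM * clsMod hLEi ^ r)
  obtain ⟨⟨φ⟩, hgg⟩ := twist_zero hX E e he hLE hneg hM hM1 hMgg r hMint N hN hLEi hNc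
  have hm0 : 0 < m := Nat.mul_pos hK hq
  refine ⟨N, hN, hgg, ?_, fun E' => ⟨fun htr => ?_, fun ⟨_, hE'⟩ => ?_⟩⟩
  · let pr : pullback X.hom (Neron.genPt R) ⟶ X.left := pullback.fst X.hom (Neron.genPt R)
    have hpy : Cube.pull pr (clsMod (IdealModSec.isInvertible_of_isEffCartier hj))⁻¹ = 1 :=
      Artin29.pull_eq_one_of_hasSec_le pr (Cube.hasSec_compl_support hj) fun z hz => by
        rw [Scheme.Hom.support_ker, (e.inv ≫ E.ι).isClosedEmbedding.isClosed_range.closure_eq] at hz
        obtain ⟨b, hb⟩ := hz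
        have h1 : (X.hom (pr z)).asIdeal = ⊥ := (ArSurf29.range_fst_genPt X.hom).le ⟨z, rfl⟩
        rw [← hb, show X.hom ((e.inv ≫ E.ι) b) = IsLocalRing.closedPoint R from
          ArSurf29.range_subset_fibre E ⟨e.inv b, rfl⟩] at h1
        exact IsDiscreteValuationRing.not_a_field R h1
    haveI := Contract29.isIntegral_genericFibre hX
    let C : Scheme.{u} := ((Neron.genericFibre R).obj X).left
    let pr' : C ⟶ X.left := pr
    haveI : IsProper (C ↘ Spec (CommRingCat.of (FractionRing R))) :=
      inferInstanceAs (IsProper (pullback.snd X.hom (Neron.genPt R)))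
    have hdim : topologicalKrullDim C = 1 := Contract29.dim_genericFibre hX (IsDiscreteValuationRing.not_isField R)
    haveI : IsIntegral C := Contract29.isIntegral_genericFibre hX
    haveI := Euler.isNoetherian_of_proper (X := C) (FractionRing R)
    have hprA : IsAffineHom pr := MorphismProperty.pullback_fst _ _ inferInstance
    haveI : IsAffineHom pr' := hprA
    have hAC := Ample.isAmple_pullback_of_isAffineHom pr' hH
    have hT := Ample.isInvertible_tensorPow hAC.1 m
    have hAT : CohB1.IsAmple (CohB1.tensorPow ((Scheme.Modules.pullback pr').obj H) m) :=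
      (Ample.isAmple_tensorPow_iff hAC.1 hm0).1 hAC
    obtain ⟨u⟩ := (Cube.clsMod_eq_iff (Ample.isInvertible_pullback pr' hN) hT).1 (by
      rw [Cube.clsMod_pullback pr' hN, hNc, hMc, hcls, map_mul, map_pow, map_pow,
        show Cube.pull pr' (clsMod (IdealModSec.isInvertible_of_isEffCartier hj))⁻¹ = 1 from hpy, one_pow, mul_one,
        Cube.clsMod_tensorPow hAC.1, Cube.clsMod_pullback pr' hH.1])
    have hpos := (Euler.isAmple_iff_deg_pos (FractionRing R) hdim hAT.1).1 hAT
    show 0 < FGA.eulerCharLE (FractionRing R) C _ 1 - FGA.eulerCharLE (FractionRing R) C (Coh.structureModule C) 1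
    rw [FGAInt26.eulerCharLE_congr (k := FractionRing R) u 1, FGAInt26.eulerCharLE_eq (FractionRing R) (d := 1) hdim.le,
      FGAInt26.eulerCharLE_eq (FractionRing R) (d := 1) hdim.le]
    simpa [Curv2.deg] using hpos
  · by_contra hne
    push Not at hne
    have h1 : ArSurf.inter R X N E' = 0 := ArSurf29.inter_eq_zero_of_pull_eq_one E' hN (by
      rw [← Cube.clsMod_pullback E'.ι hN]; exact (Cube.clsMod_eq_one_iff _).2 htr)
    rw [ArSurf29.inter_eq_icl E' hN, hNc, hMc, ArSurf29.icl_mul, ArSurf29.icl_pow, ArSurf29.icl_pow,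
      ← ArSurf29.inter_eq_icl E' hH.1, ← ArSurf29.inter_eq_icl E' hLEi] at h1
    have h2 := mul_pos (show (0 : ℤ) < (m : ℤ) by exact_mod_cast hm0) (Artin29.inter_pos_of_ample hH E')
    have hmax := ArSurf29.isMaxComp_of_isArithSurface hX
    have h3 : 0 ≤ ArSurf.inter R X LE E' := ArSurf29.inter_nonneg E' (ArSurf29.isEffCartier_ker (hmax E) hX.1)
      (ArSurf29.notMem_support_ker_of_ne (hmax E') (hne 0)) hLE
    have h4 := mul_nonneg (show (0 : ℤ) ≤ (r : ℤ) from Int.natCast_nonneg r) h3
    linarith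
  · haveI := E.isIntegral
    have hker : E.ι.ker ≤ E'.ι.ker := by
      have h1 : closure {Models.genPtOf R X E} = closure {Models.genPtOf R X E'} := by
        rw [← ArSurf29.range_eq_closure, ← ArSurf29.range_eq_closure, hE']
      rw [ArSurf29.ker_eq, ArSurf29.ker_eq]
      exact le_of_eq (congrArg Scheme.IdealSheafData.vanishingIdeal (Closeds.ext h1))
    refine (Cube.clsMod_eq_one_iff (Ample.isInvertible_pullback E'.ι hN)).1 ?_
    have h1 := (Cube.clsMod_eq_one_iff (Ample.isInvertible_pullback E.ι hN)).2 ⟨φ⟩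
    rw [Cube.clsMod_pullback E.ι hN] at h1
    rw [Cube.clsMod_pullback E'.ι hN, ← IsClosedImmersion.lift_fac E.ι E'.ι hker, ← Cube.pull_comp, h1, map_one]

end GrothLib.LineNeg29
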