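import Groth.Agent.Lib.ArSurf29.GenusZeroComp
import Groth.Agent.Lib.ArSurf29.Inter
import Groth.Agent.Lib.Contract29.Degree

/-!
# Intersection numbers with a projective line over an extension of the residue field
-/

set_option autoImplicit false
set_option linter.all false
set_option backward.isDefEq.respectTransparency false

universe u

open CategoryTheory CategoryTheory.Limits AlgebraicGeometry TopologicalSpace IsLocalRing
open GrothLib.Cube (Pic clsMod)

noncomputable section

namespace GrothLib.LineNeg29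

variable (k : Type u) [Field k] {Y : Scheme.{u}} [Y.Over (Spec (CommRingCat.of k))]
  [IsProper (Y ↘ Spec (CommRingCat.of k))]

/-- The degree of a class on a curve. -/
def dcl (x : Pic Y) : ℤ := Curv2.deg k Y (HodgeIndex.rep x) 1

theorem deg_eq_dcl {M : Y.Modules} (hM : PicF.IsInvertible M) : Curv2.deg k Y M 1 = dcl k (clsMod hM) := by
  obtain ⟨e⟩ := (Cube.clsMod_eq_iff hM (HodgeIndex.isInv_rep _)).1 (HodgeIndex.cls_rep _).symm
  exact Euler.deg_of_iso _ e 1

variable [IsIntegral Y] (hd : topologicalKrullDim Y = 1)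
include hd

theorem dcl_mul (x y : Pic Y) : dcl k (x * y) = dcl k x + dcl k y := by
  haveI := Euler.isNoetherian_of_proper (X := Y) k
  have hxy := Ample.isInvertible_tensorMod (HodgeIndex.isInv_rep x) (HodgeIndex.isInv_rep y)
  have hc : clsMod hxy = x * y := by rw [Cube.clsMod_tensorMod (HodgeIndex.isInv_rep x) (HodgeIndex.isInv_rep y), HodgeIndex.cls_rep, HodgeIndex.cls_rep]
  rw [← hc, ← deg_eq_dcl k hxy]
  exact CurveMult.deg_tensorMod _ hd.le (HodgeIndex.isInv_rep x) (HodgeIndex.isInv_rep y)

/-- The degree as a homomorphism. -/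
def dclHom : Pic Y →* Multiplicative ℤ :=
  MonoidHom.mk' (fun x => Multiplicative.ofAdd (dcl k x)) fun x y => by rw [dcl_mul k hd, ofAdd_add]

theorem dcl_zpow (x : Pic Y) (n : ℤ) : dcl k (x ^ n) = n * dcl k x :=
  (congrArg Multiplicative.toAdd (map_zpow (dclHom k hd) x n)).trans (smul_eq_mul n _)

omit hd

variable {R : Type u} [CommRing R] [IsDomain R] [IsDiscreteValuationRing R]
  {X : Over (Spec (CommRingCat.of R))} [IsProper X.hom] (E : ArSurf.VertComp R X)
  {k' : Type u} [Field k'] [Algebra (ResidueField R) k'] (e : E.curve.left ≅ CohB1.ProjSpace 1 k')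
  (he : e.hom ≫ CohB1.ProjSpace.toSpec 1 k' ≫
    Spec.map (CommRingCat.ofHom (algebraMap (ResidueField R) k')) = E.curve.hom)
include he

/-- A class restricting to `O(a)` has intersection number `a [k' : k]` with the line. -/
theorem inter_eq_mul {M : X.left.Modules} (hM : PicF.IsInvertible M) (a : ℤ)
    (ha : Cube.pull (e.inv ≫ E.ι) (clsMod hM) = clsMod (CMReg.isInvertible_twist (n := 1) (k := k') 1) ^ a) :
    ArSurf.inter R X M E = a * (Module.finrank (ResidueField R) k' : ℤ) := by
  haveI := ArSurf29.isProper_curve E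
  haveI := Euler.isNoetherian_of_proper (X := E.curve.left) (ResidueField R)
  have hT := CMReg.isInvertible_twist (n := 1) (k := k') 1
  have hN := Ample.isInvertible_pullback e.hom hT
  have hcls : Cube.pull E.ι (clsMod hM) = clsMod hN ^ a := by
    rw [Cube.clsMod_pullback e.hom hT, ← map_zpow, ← ha, Cube.pull_comp, e.hom_inv_id_assoc]
  rw [ArSurf29.inter_eq_deg E hM, deg_eq_dcl (ResidueField R) (Ample.isInvertible_pullback E.ι hM),
    Cube.clsMod_pullback E.ι hM, hcls, dcl_zpow (ResidueField R) E.dim_eq, ← deg_eq_dcl (ResidueField R) hN]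
  congr 1
  let P := CohB1.ProjSpace 1 k'
  let φ := algebraMap (ResidueField R) k'
  let q' : P ⟶ Spec (CommRingCat.of k') := CohB1.ProjSpace.toSpec 1 k'
  let q : P ⟶ Spec (CommRingCat.of (ResidueField R)) := q' ≫ Spec.map (CommRingCat.ofHom φ)
  have hφ : ∀ a, Coh.toGlobal q a = Coh.toGlobal q' (φ a) := fun a => by
    show q.appTop ((Scheme.ΓSpecIso (CommRingCat.of (ResidueField R))).inv a) =
      q'.appTop ((Scheme.ΓSpecIso (CommRingCat.of k')).inv (φ a))
    rw [Scheme.Hom.comp_appTop, CommRingCat.comp_apply]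
    exact congrArg q'.appTop (congrArg (fun m => (ConcreteCategory.hom m) a)
      (Scheme.ΓSpecIso_inv_naturality (CommRingCat.ofHom φ))).symm
  letI : P.Over (Spec (CommRingCat.of (ResidueField R))) := ⟨q⟩
  have hscale : ∀ (F : P.Modules) (i : ℕ), Module.finrank (ResidueField R) (Coh.HH P F i) =
      Module.finrank (ResidueField R) k' * Module.finrank k' (Coh.HH P F i) := fun F i => by
    rw [ArSurf29.finrank_HH_mul (ResidueField R) q q' φ hφ,
      show φ.toAlgebra = ‹Algebra (ResidueField R) k'› from Algebra.algebra_ext _ _ fun r => rfl]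
  have heul : ∀ {F : P.Modules} (hF : PicF.IsInvertible F),
      Curv2.euler (ResidueField R) E.curve.left ((Scheme.Modules.pullback e.hom).obj F) =
        (Module.finrank (ResidueField R) k' : ℤ) * Curv2.euler k' P F := fun {F} hF => by
    haveI : F.IsQuasicoherent := (Euler.isCoh_of_isInvertible hF).1
    haveI : IsProper (P ↘ Spec (CommRingCat.of k')) := Chow.isProper_toSpec 1 k'
    haveI := (Euler.isCoh_of_isInvertible (Ample.isInvertible_pullback e.hom hF)).1
    have hdP : topologicalKrullDim P = 1 := by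
      rw [← E.dim_eq]; exact (e.hom.homeomorph.isHomeomorph.topologicalKrullDim_eq).symm
    rw [Euler.euler_eq_sum (ResidueField R) _ (N := 2) fun m hm =>
        Euler.subsingleton_HH_of_two_le (ResidueField R) E.dim_eq.le _ m hm,
      Euler.euler_eq_sum k' F (N := 2) fun m hm =>
        Euler.subsingleton_HH_of_two_le k' hdP.le F m hm, Finset.mul_sum]
    refine Finset.sum_congr rfl fun i _ => ?_
    obtain ⟨f⟩ := ArSurf29.nonempty_HH_pullback_iso (ResidueField R) (Z := E.curve.left) (Y := P) e.hom he hF i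
    rw [f.finrank_eq, hscale]
    push_cast
    ring
  obtain ⟨s⟩ := (Cube.clsMod_eq_one_iff (Kleiman.isInv_pullback e.hom (Euler.isInvertible_structure (X := P)))).1 (by
    rw [Cube.clsMod_pullback e.hom Euler.isInvertible_structure,
      show Cube.clsMod (Euler.isInvertible_structure (X := P)) = 1 from
        (Cube.clsMod_eq_one_iff _).2 ⟨Iso.refl _⟩, map_one])
  have h1 := ArSurf29.deg_twist_one k'
  rw [Curv2.deg] at h1
  rw [Curv2.deg, heul hT, ← Euler.euler_of_iso (ResidueField R) s, heul Euler.isInvertible_structure]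
  linear_combination (Module.finrank (ResidueField R) k' : ℤ) * h1

theorem exists_pull_zpow {M : X.left.Modules} (hM : PicF.IsInvertible M) :
    ∃ a : ℤ, Cube.pull (e.inv ≫ E.ι) (clsMod hM) = clsMod (CMReg.isInvertible_twist (n := 1) (k := k') 1) ^ a ∧
      ArSurf.inter R X M E = a * (Module.finrank (ResidueField R) k' : ℤ) := by
  obtain ⟨a, ha⟩ := Contract29.exists_cls_eq_zpow k' (Ample.isInvertible_pullback (e.inv ≫ E.ι) hM)
  rw [Cube.clsMod_pullback (e.inv ≫ E.ι) hM] at ha
  exact ⟨a, ha, inter_eq_mul E e he hM a ha⟩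

end GrothLib.LineNeg29
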