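import Groth.Agent.Lib.LineNeg29.Tangent
import Groth.Agent.Lib.LineNeg29.Contract
import Groth.Agent.Lib.RatSing29.SeqH1

/-!
# The tangent space at the image of a negative line
-/

set_option autoImplicit false
set_option linter.all false
set_option backward.isDefEq.respectTransparency false

universe u

open CategoryTheory CategoryTheory.Limits AlgebraicGeometry Opposite TopologicalSpace
open GrothLib.Cube (clsMod)
open GrothLib.Contract29

noncomputable section

namespace GrothLib.LineNeg29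

theorem finrank_cotangentSpace_of_line {X Y : Scheme.{u}} [IsIntegral X] [IsIntegral Y] [IsLocallyNoetherian Y]
    (b : X ⟶ Y) [IsProper b] (hN : ∀ q, IsIntegrallyClosed (Y.presheaf.stalk q)) {k : Type u} [Field k]
    (j : CohB1.ProjSpace 1 k ⟶ X) [IsClosedImmersion j] (hj : _root_.BlowUp.IsEffCartierIdeal j.ker) (δ : ℕ)
    (ht : Cube.pull j (clsMod (IdealModSec.isInvertible_of_isEffCartier hj)) =
      clsMod (CMReg.isInvertible_twist (n := 1) (k := k) 1) ^ (δ : ℤ))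
    (y : Y) (hy : IsClosed ({y} : Set Y)) (hfib : Set.range j = b ⁻¹' {y})
    (hne : Set.range j ≠ Set.univ)
    (hpunct : IsIso (b ∣_ (⟨{y}ᶜ, hy.isOpen_compl⟩ : Y.Opens))) :
    Module.finrank (IsLocalRing.ResidueField (Y.presheaf.stalk y))
      (IsLocalRing.CotangentSpace (Y.presheaf.stalk y)) = δ + 1 := by
  have happ := RatSing29.isIso_app_of_birational b hN ⟨{y}ᶜ, hy.isOpen_compl⟩ (by
    obtain ⟨p, hp⟩ := (Set.ne_univ_iff_exists_notMem _).1 hne
    exact ⟨b p, fun h => hp (hfib.ge h)⟩) hpunct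
  obtain ⟨W, hyW, -⟩ := GrothLib.BlowUp.exists_affine_mem_le (W := (⊤ : Y.Opens)) (x := y) trivial
  let A := Γ(Y, W.1)
  haveI : IsNoetherianRing A := IsLocallyNoetherian.component_noetherian W
  let J := (W.2.primeIdealOf ⟨y, hyW⟩).asIdeal
  obtain ⟨-, hJmax⟩ := ExcP1.vanishingIdeal_point_ideal hy W hyW
  haveI : J.IsMaximal := hJmax
  let X₁ : Scheme.{u} := (b ⁻¹ᵁ W.1).toScheme
  let κ : X₁ ⟶ X := (b ⁻¹ᵁ W.1).ι
  let f : X₁ ⟶ Spec (CommRingCat.of A) := (b ∣_ W.1) ≫ W.2.isoSpec.hom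
  haveI : IsProper (b ∣_ W.1) := IsZariskiLocalAtTarget.restrict ‹IsProper b› W.1
  haveI : IsProper f := inferInstanceAs (IsProper ((b ∣_ W.1) ≫ W.2.isoSpec.hom))
  have hfsp : f ≫ W.2.fromSpec = κ ≫ b := by
    show ((b ∣_ W.1) ≫ W.2.isoSpec.hom) ≫ W.2.fromSpec = _
    rw [Category.assoc, IsAffineOpen.isoSpec_hom_fromSpec]
    exact morphismRestrict_ι b W.1
  have hfapp : ∀ V, IsIso (f.app V) := fun V => by
    show IsIso (((b ∣_ W.1) ≫ W.2.isoSpec.hom).app V)
    rw [Scheme.Hom.comp_app, morphismRestrict_app]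
    haveI := happ (W.1.ι ''ᵁ (W.2.isoSpec.hom ⁻¹ᵁ V))
    infer_instance
  have hr : Set.range j ⊆ Set.range κ := by
    rw [Scheme.Opens.range_ι]
    intro x hx
    show b x ∈ W.1
    rw [show b x = y from hfib.le hx]
    exact hyW
  let j₁ := IsOpenImmersion.lift κ j hr
  have hj₁ : j₁ ≫ κ = j := IsOpenImmersion.lift_fac _ _ _
  haveI : IsClosedImmersion (j₁ ≫ κ) := by rw [hj₁]; infer_instance
  haveI : IsClosedImmersion j₁ := IsClosedImmersion.of_comp j₁ κ
  have hcart₁ := isEffCartier_restrict κ j j₁ hj₁ hj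
  obtain ⟨t₁⟩ := nonempty_gr_one_restrict κ j j₁ hj₁ hj
  obtain ⟨t⟩ := (Cube.clsMod_eq_iff (Ample.isInvertible_pullback j (isInvertible_pow j hj 1))
      (CMReg.isInvertible_twist (n := 1) (k := k) (δ : ℤ))).1 (by
    rw [cls_twist_pow k δ, Cube.clsMod_pullback j (isInvertible_pow j hj 1),
      (ArSurf29.cls_idealMod_pow hj 1).choose_spec, pow_one, ht, zpow_natCast])
  have hfy : ∀ z : X₁, J ≤ (f z).asIdeal ↔ b (κ z) = y := fun z => by
    have hval : W.2.fromSpec (f z) = b (κ z) := congrArg (fun φ => φ z) hfsp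
    constructor
    · intro h
      rw [← hval, ← PrimeSpectrum.ext (hJmax.eq_of_le (f z).isPrime.ne_top h)]
      exact W.2.fromSpec_primeIdealOf ⟨y, hyW⟩
    · intro h
      rw [show f z = W.2.primeIdealOf ⟨y, hyW⟩ from W.2.fromSpec.isOpenEmbedding.injective
        (hval.trans (h.trans (W.2.fromSpec_primeIdealOf ⟨y, hyW⟩).symm))]
  have hj₁κ : ∀ p, κ (j₁ p) = j p := fun p => congrArg (fun φ => φ p) hj₁
  have hfib₁ : Set.range j₁ = {z | J ≤ (f z).asIdeal} := by
    ext z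
    rw [Set.mem_setOf_eq, hfy]
    refine ⟨?_, fun h => ?_⟩
    · rintro ⟨p, rfl⟩
      rw [hj₁κ]
      exact hfib.le ⟨p, rfl⟩
    · obtain ⟨p, hp⟩ := hfib.ge h
      exact ⟨p, κ.isOpenEmbedding.injective ((hj₁κ p).trans hp)⟩
  letI : Algebra A (Y.presheaf.stalk y) := Y.presheaf.algebra_section_stalk (⟨y, hyW⟩ : W.1)
  haveI : IsLocalization.AtPrime (Y.presheaf.stalk y) J := W.2.isLocalization_stalk ⟨y, hyW⟩
  rw [finrank_cotangentSpace_atMaximal J (Y.presheaf.stalk y)]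
  exact finrank_cotangent f hfapp j₁ hcart₁ (t₁ ≪≫ t) J hfib₁

end GrothLib.LineNeg29
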