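import Groth.Agent.Lib.Contract29.Twist
import Groth.Agent.Lib.Contract29.Bundle
import Groth.Agent.Lib.Contract29.AmpleCover
import Groth.Agent.Lib.Cube.DivisorSection

/-!
# Twisting by a line with negative self-intersection
-/

set_option autoImplicit false
set_option linter.all false
set_option backward.isDefEq.respectTransparency false

universe u

open CategoryTheory CategoryTheory.Limits AlgebraicGeometry Opposite TopologicalSpace
open GrothLib.InvExt (mres IsGen)
open GrothLib.Cube (clsMod)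

noncomputable section

namespace GrothLib.LineNeg29

variable {X : Scheme.{u}} {A : Type u} [CommRing A] [IsNoetherianRing A] [X.Over (Spec (CommRingCat.of A))]
  [IsProper (X ↘ Spec (CommRingCat.of A))] {k : Type u} [Field k]
  (j : CohB1.ProjSpace 1 k ⟶ X) [IsClosedImmersion j] (hj : _root_.BlowUp.IsEffCartierIdeal j.ker) (δ : ℕ)
  (ht : Cube.pull j (clsMod (IdealModSec.isInvertible_of_isEffCartier hj)) =
    clsMod (CMReg.isInvertible_twist (n := 1) (k := k) 1) ^ (δ : ℤ))
include ht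

omit [IsProper (X ↘ Spec (CommRingCat.of A))] [IsNoetherianRing A] [X.Over (Spec (CommRingCat.of A))] in
theorem pull_mul_inv_pow {P : Cube.Pic X} (d : ℤ)
    (hP : Cube.pull j P = clsMod (CMReg.isInvertible_twist (n := 1) (k := k) 1) ^ d) (i : ℕ) :
    Cube.pull j (P * (clsMod (IdealModSec.isInvertible_of_isEffCartier hj))⁻¹ ^ i) =
      clsMod (CMReg.isInvertible_twist (n := 1) (k := k) 1) ^ (d - δ * i) := by
  rw [map_mul, map_pow, map_inv, hP, ht, inv_pow, ← zpow_natCast (clsMod _ ^ (δ : ℤ)) i, ← zpow_mul, ← zpow_sub]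

omit [IsProper (X ↘ Spec (CommRingCat.of A))] [IsNoetherianRing A] in
include A in
/-- Twisting by the line keeps the first cohomology zero in the range of the degree. -/
theorem subsingleton_H1_twists (L : X.Modules) (hL : PicF.IsInvertible L) (d : ℤ)
    (hd : Cube.pull j (clsMod hL) = clsMod (CMReg.isInvertible_twist (n := 1) (k := k) 1) ^ d)
    (h1 : Subsingleton (Coh.HH X L 1)) :
    ∀ (i : ℕ), (δ : ℤ) * i ≤ d + 1 → ∀ (N : X.Modules) (hN : PicF.IsInvertible N),
      clsMod hN = clsMod hL * (clsMod (IdealModSec.isInvertible_of_isEffCartier hj))⁻¹ ^ i →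
      Subsingleton (Coh.HH X N 1) := by
  intro i
  induction i with
  | zero =>
    intro _ N hN h
    rw [pow_zero, mul_one] at h
    obtain ⟨e⟩ := (Cube.clsMod_eq_iff hN hL).1 h
    exact CMReg.subsingleton_of_iso e.symm h1
  | succ i ih =>
    intro hi N hN h
    push_cast at hi
    have hI := IdealModSec.isInvertible_of_isEffCartier hj
    have hN' := Ample.isInvertible_tensorMod hN hI
    have hcl : clsMod hN' = clsMod hL * (clsMod hI)⁻¹ ^ i := by
      rw [Cube.clsMod_tensorMod hN hI, h, pow_succ]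
      simp [mul_assoc]
    have hδ : (0 : ℤ) ≤ δ := Int.natCast_nonneg δ
    haveI := ih (by linarith) _ hN' hcl
    obtain ⟨f, θ, w, hS⟩ := Contract29.exists_seq_twist j hj hN hN' (Cube.clsMod_tensorMod hN hI)
    have hG := Ample.isInvertible_pullback j hN
    haveI : Subsingleton (Coh.HH (CohB1.ProjSpace 1 k) ((Scheme.Modules.pullback j).obj N) 1) :=
      Contract29.subsingleton_H1_of_cls_zpow k hG (d - δ * (i + 1 : ℕ)) (by push_cast; linarith)
        (by rw [Cube.clsMod_pullback j hN, h, pull_mul_inv_pow j hj δ ht d hd])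
    haveI : ((Scheme.Modules.pullback j).obj N).IsQuasicoherent :=
      Euler.isQuasicoherent_of_isFinLocFree (Euler.isFinLocFree_of_isInvertible hG)
    obtain ⟨q⟩ := Cohom.nonempty_HH_equiv_pushforward j ((Scheme.Modules.pullback j).obj N) 1
    haveI := q.symm.toEquiv.subsingleton
    refine ⟨fun x y => ?_⟩
    have key : ∀ z : Coh.HH X N 1, z = 0 := fun z => by
      obtain ⟨v, hv⟩ := (Cohom.exact₂ (A := A) hS 1 z).1 (Subsingleton.elim _ _)
      rw [← hv, Subsingleton.elim v 0, map_zero]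
    rw [key x, key y]

include A in
/-- A module of positive degree on the line, twisted down to degree zero, has a section generating along it. -/
theorem exists_hasSec (L : X.Modules) (hL : PicF.IsInvertible L) (i : ℕ)
    (hd : Cube.pull j (clsMod hL) = clsMod (CMReg.isInvertible_twist (n := 1) (k := k) 1) ^ ((δ : ℤ) * (i + 1 : ℕ)))
    (h1 : Subsingleton (Coh.HH X L 1)) :
    ∃ O : X.Opens, Set.range j.base ⊆ (O : Set X) ∧
      Cube.HasSec (clsMod hL * (clsMod (IdealModSec.isInvertible_of_isEffCartier hj))⁻¹ ^ (i + 1)) O := by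
  obtain ⟨N, hN, hNc⟩ := Contract29.exists_mod
    (clsMod hL * (clsMod (IdealModSec.isInvertible_of_isEffCartier hj))⁻¹ ^ (i + 1))
  have hI := IdealModSec.isInvertible_of_isEffCartier hj
  have hN' := Ample.isInvertible_tensorMod hN hI
  have hcl : clsMod hN' = clsMod hL * (clsMod hI)⁻¹ ^ i := by
    rw [Cube.clsMod_tensorMod hN hI, hNc, pow_succ]; simp [mul_assoc]
  haveI := subsingleton_H1_twists (A := A) j hj δ ht L hL _ hd h1 i
    (by push_cast; have : (0 : ℤ) ≤ δ := Int.natCast_nonneg δ; linarith) _ hN' hcl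
  obtain ⟨g, θ, w, hS⟩ := Contract29.exists_seq_twist j hj hN hN' (Cube.clsMod_tensorMod hN hI)
  obtain ⟨e⟩ := (Cube.clsMod_eq_one_iff (Ample.isInvertible_pullback j hN)).1 (by
    rw [Cube.clsMod_pullback j hN, hNc, pull_mul_inv_pow j hj δ ht _ hd, sub_self, zpow_zero])
  have hgen : IsGen ((Scheme.Modules.pullback j).obj N) (j ⁻¹ᵁ ⊤) (e.inv.app ⊤ (1 : Γ(CohB1.ProjSpace 1 k, ⊤))) :=
    (InvExt.isGen_one ⊤).map e.inv fun W _ =>
      ConcreteCategory.bijective_of_isIso ((Scheme.Modules.toPresheaf _).map e.inv |>.app (op W))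
  obtain ⟨x₀, hx₀⟩ := Contract29.surjective_of_subsingleton (A := A) hS (e.inv.app ⊤ (1 : Γ(CohB1.ProjSpace 1 k, ⊤)))
  have hx₀' : IsGen ((Scheme.Modules.pullback j).obj N) (j ⁻¹ᵁ ⊤) (Contract29.down j (θ.app ⊤ x₀)) := by
    rw [show Contract29.down j (θ.app ⊤ x₀) = e.inv.app ⊤ (1 : Γ(CohB1.ProjSpace 1 k, ⊤)) from hx₀]; exact hgen
  obtain ⟨c, ⟨u⟩⟩ := Ample.exists_cocycle hN
  refine ⟨c.locus (show c.sect 1 ⊤ from u.hom.app ⊤ x₀), ?_, ⟨c, _, by rw [← hNc, Cube.clsMod_eq hN u], rfl⟩⟩
  rintro _ ⟨p, rfl⟩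
  obtain ⟨V, hpV, hV⟩ := Contract29.exists_gen_nhd_of_image j hN θ x₀ hx₀' p
  exact (Contract29.gen_iff_le_locus c u x₀ V).1 hV hpV

end GrothLib.LineNeg29
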