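import Groth.Agent.Lib.LineNeg29.Degree
import Groth.Agent.Lib.LineNeg29.Twist
import Groth.Agent.Lib.Semiample.Criterion
import Groth.Agent.Lib.ArSurf29.Setup
import Groth.Agent.Lib.ArSurf29.Form
import Groth.Agent.Lib.Cube.AmpleCrit

/-!
# Vanishing and generation for twists along a negative line on an arithmetic surface
-/

set_option autoImplicit false
set_option linter.all false
set_option backward.isDefEq.respectTransparency false

universe u

open CategoryTheory CategoryTheory.Limits AlgebraicGeometry TopologicalSpace IsLocalRing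
open GrothLib.Cube (clsMod)

noncomputable section

namespace GrothLib.LineNeg29

variable {R : Type u} [CommRing R] [IsDomain R] [IsDiscreteValuationRing R]
  {X : Over (Spec (CommRingCat.of R))} (hX : ArSurf.IsArithSurface R X) [IsProper X.hom] [IsLocallyNoetherian X.left] [Flat X.hom]
  (E : ArSurf.VertComp R X) {k' : Type u} [Field k'] [Algebra (ResidueField R) k']
  (e : E.curve.left ≅ CohB1.ProjSpace 1 k')
  (he : e.hom ≫ CohB1.ProjSpace.toSpec 1 k' ≫
    Spec.map (CommRingCat.ofHom (algebraMap (ResidueField R) k')) = E.curve.hom)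
  {LE : X.left.Modules} (hLE : ClSub.IsInverseOf LE (ClSub.idealMod E.ι.ker))
  (hneg : ArSurf.inter R X LE E < 0)
include hX he hLE hneg

theorem exists_line_data : ∃ (δ : ℕ) (hj : _root_.BlowUp.IsEffCartierIdeal (e.inv ≫ E.ι).ker) (hLEi : PicF.IsInvertible LE),
    0 < δ ∧ 0 < Module.finrank (ResidueField R) k' ∧
    ArSurf.inter R X LE E = -((δ : ℤ) * (Module.finrank (ResidueField R) k' : ℤ)) ∧
    clsMod hLEi = (clsMod (IdealModSec.isInvertible_of_isEffCartier hj))⁻¹ ∧
    Cube.pull (e.inv ≫ E.ι) (clsMod (IdealModSec.isInvertible_of_isEffCartier hj)) =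
      clsMod (CMReg.isInvertible_twist (n := 1) (k := k') 1) ^ (δ : ℤ) := by
  have hE := ArSurf29.isEffCartier_ker (ArSurf29.isMaxComp_of_isArithSurface hX E) hX.1
  have hker : (e.inv ≫ E.ι).ker = E.ι.ker := Scheme.Hom.ker_comp_of_isIso e.inv E.ι
  have hj : _root_.BlowUp.IsEffCartierIdeal (e.inv ≫ E.ι).ker := hker.symm ▸ hE
  have hLEi := ArSurf29.isInvertible_of_isInverseOf hE hLE
  have hI := IdealModSec.isInvertible_of_isEffCartier hj
  have hcls : clsMod hLEi = (clsMod hI)⁻¹ := by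
    rw [Cube.clsMod_eq_inv_of_isInverseOf hLEi (IdealModSec.isInvertible_of_isEffCartier hE) hLE]
    exact congrArg _ ((Cube.clsMod_eq_iff _ _).2 ⟨eqToIso (by rw [hker])⟩)
  obtain ⟨a, ha, hai⟩ := exists_pull_zpow E e he hLEi
  have hw : 0 < Module.finrank (ResidueField R) k' := Nat.pos_of_ne_zero fun h0 => by
    rw [hai, h0, Nat.cast_zero, mul_zero] at hneg
    exact lt_irrefl 0 hneg
  have hw' : (0 : ℤ) < (Module.finrank (ResidueField R) k' : ℤ) := by exact_mod_cast hw
  have ha0 : a < 0 := by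
    by_contra h
    push Not at h
    have := mul_nonneg h hw'.le
    omega
  refine ⟨(-a).toNat, hj, hLEi, by omega, hw, ?_, hcls, ?_⟩
  · rw [Int.toNat_of_nonneg (by omega), hai]; ring
  · rw [Int.toNat_of_nonneg (by omega), zpow_neg, ← ha, hcls, map_inv, inv_inv]

/-- Vanishing of the first cohomology of the twists in the range of the degree. -/
theorem subsingleton_H1 {M : X.left.Modules} (hM : PicF.IsInvertible M) (h1 : Subsingleton (Coh.HH X.left M 1))
    (i : ℕ) (hi : (i : ℤ) * (-ArSurf.inter R X LE E) ≤ ArSurf.inter R X M E)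
    (N : X.left.Modules) (hN : PicF.IsInvertible N) (hLEi : PicF.IsInvertible LE)
    (hNc : clsMod hN = clsMod hM * clsMod hLEi ^ i) : Subsingleton (Coh.HH X.left N 1) := by
  obtain ⟨δ, hj, hLEi', hδ, hw, hint, hcls, ht⟩ := exists_line_data hX E e he hLE hneg
  obtain ⟨a, ha, hai⟩ := exists_pull_zpow E e he hM
  letI : X.left.Over (Spec (CommRingCat.of R)) := ⟨X.hom⟩
  haveI : IsProper (X.left ↘ Spec (CommRingCat.of R)) := inferInstanceAs (IsProper X.hom)
  refine subsingleton_H1_twists (A := R) (e.inv ≫ E.ι) hj δ ht M hM a ha h1 i ?_ N hN (hcls ▸ hNc)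
  rw [hint, hai, neg_neg, ← mul_assoc] at hi
  have := le_of_mul_le_mul_right hi (by exact_mod_cast hw : (0 : ℤ) < (Module.finrank (ResidueField R) k' : ℤ))
  linarith

/-- The twist of degree zero: trivial on the line, with sections generating everywhere. -/
theorem twist_zero {M : X.left.Modules} (hM : PicF.IsInvertible M) (h1 : Subsingleton (Coh.HH X.left M 1))
    (hgg : Curv2.IsGloballyGenerated M) (r : ℕ) (hr : ArSurf.inter R X M E = (r : ℤ) * (-ArSurf.inter R X LE E))
    (N : X.left.Modules) (hN : PicF.IsInvertible N) (hLEi : PicF.IsInvertible LE)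
    (hNc : clsMod hN = clsMod hM * clsMod hLEi ^ r) :
    Nonempty ((Scheme.Modules.pullback E.ι).obj N ≅ Coh.structureModule E.curve.left) ∧
      Curv2.IsGloballyGenerated N := by
  obtain ⟨δ, hj, hLEi', hδ, hw, hint, hcls, ht⟩ := exists_line_data hX E e he hLE hneg
  obtain ⟨a, ha, hai⟩ := exists_pull_zpow E e he hM
  have har : a = (δ : ℤ) * r := by
    have hw' : (Module.finrank (ResidueField R) k' : ℤ) ≠ 0 := by exact_mod_cast hw.ne'
    refine mul_right_cancel₀ hw' ?_
    rw [← hai, hr, hint]; ring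
  have hNc' : clsMod hN = clsMod hM * (clsMod (IdealModSec.isInvertible_of_isEffCartier hj))⁻¹ ^ r := hcls ▸ hNc
  refine ⟨?_, ?_⟩
  · refine (Cube.clsMod_eq_one_iff (Ample.isInvertible_pullback E.ι hN)).1 ?_
    rw [Cube.clsMod_pullback E.ι hN, show E.ι = e.hom ≫ e.inv ≫ E.ι by simp, ← Cube.pull_comp, hNc',
      pull_mul_inv_pow (e.inv ≫ E.ι) hj δ ht a ha, har, sub_self, zpow_zero, map_one]
  · haveI : CompactSpace X.left := QuasiCompact.compactSpace_of_compactSpace X.hom
    obtain ⟨c, ⟨eN⟩⟩ := Ample.exists_cocycle hN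
    obtain ⟨cM, ⟨eM⟩⟩ := Ample.exists_cocycle hM
    obtain ⟨n, s, hs⟩ := Semiample.exists_sections cM (Ample.isGloballyGenerated_of_iso eM hgg)
    have hsec : ∀ l, Cube.HasSec (clsMod hM) (cM.locus (s l)) := fun l => ⟨cM, s l, (Cube.clsMod_eq hM eM).symm, rfl⟩
    have hcN : Cube.cls c = clsMod hN := (Cube.clsMod_eq hN eN).symm
    refine Ample.isGloballyGenerated_of_iso eN.symm (c.isGloballyGenerated_of_generated fun p => ?_)
    obtain ⟨l, hl⟩ := Opens.mem_iSup.1 (hs.ge (Opens.mem_top p))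
    rcases Nat.eq_zero_or_pos r with rfl | hrpos
    · have h := hsec l
      rw [show clsMod hM = Cube.cls c by rw [hcN, hNc', pow_zero, mul_one]] at h
      obtain ⟨b, hb⟩ := Cube.exists_sect_of_hasSec h
      exact ⟨b, hb.ge hl⟩
    obtain ⟨r, rfl⟩ : ∃ r', r = r' + 1 := ⟨r - 1, by omega⟩
    by_cases hp : p ∈ Set.range (e.inv ≫ E.ι).base
    · letI : X.left.Over (Spec (CommRingCat.of R)) := ⟨X.hom⟩
      haveI : IsProper (X.left ↘ Spec (CommRingCat.of R)) := inferInstanceAs (IsProper X.hom)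
      obtain ⟨O, hO, hOs⟩ := exists_hasSec (A := R) (e.inv ≫ E.ι) hj δ ht M hM r (har ▸ ha) h1
      rw [← hNc', ← hcN] at hOs
      obtain ⟨b, hb⟩ := Cube.exists_sect_of_hasSec hOs
      exact ⟨b, hb.ge (hO hp)⟩
    · have h2 := Cube.hasSec_mul (hsec l) (Cube.hasSec_pow (Cube.hasSec_compl_support hj) r)
      rw [← hNc', ← hcN] at h2
      obtain ⟨b, hb⟩ := Cube.exists_sect_of_hasSec h2
      refine ⟨b, hb.ge ⟨hl, fun h => hp ?_⟩⟩
      rwa [Scheme.Hom.support_ker, (e.inv ≫ E.ι).isClosedEmbedding.isClosed_range.closure_eq] at h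

end GrothLib.LineNeg29
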