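import Groth.Agent.Lib.Contract29.Point
import Groth.Agent.Lib.Contract29.Degree
import Groth.Agent.Lib.ProjCohom.Corollaries
import Groth.Agent.Lib.BinForm.Basic
import Groth.Agent.Lib.ArSurf29.GenusZeroComp
import Mathlib.RingTheory.Localization.AtPrime.Basic

/-!
# The cotangent space at the image point of a line with conormal degree `δ`
-/

set_option autoImplicit false
set_option linter.all false
set_option backward.isDefEq.respectTransparency false

universe u

open CategoryTheory CategoryTheory.Limits AlgebraicGeometry Opposite TopologicalSpace MvPolynomial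
open GrothLib.InvExt (mres fres IsGen)
open GrothLib.IdealModSec (val val_injective val_smul exists_val_eq)
open GrothLib.RatSing29 (gOn GenBy P)
open GrothLib.CartierDescent (stalkIdeal)
open GrothLib.Cube (clsMod)
open GrothLib.Ample.ProjTwist (gsec)
open GrothLib.Contract29

noncomputable section

namespace GrothLib.LineNeg29

/-- The cotangent space of the localization at a maximal ideal. -/
theorem finrank_cotangentSpace_atMaximal {A : Type u} [CommRing A] (J : Ideal A) [J.IsMaximal] (L : Type u)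
    [CommRing L] [Algebra A L] [IsLocalization.AtPrime L J] [IsLocalRing L] :
    Module.finrank (IsLocalRing.ResidueField L) (IsLocalRing.CotangentSpace L) =
      Module.finrank (A ⧸ J) J.Cotangent := by
  have hmap : ∀ x ∈ J, algebraMap A L x ∈ IsLocalRing.maximalIdeal L := fun x hx => by
    rw [← IsLocalization.AtPrime.map_eq_maximalIdeal J L]
    exact Ideal.mem_map_of_mem _ hx
  let g : J.Cotangent →ₗ[A] (IsLocalRing.maximalIdeal L).Cotangent :=
    Ideal.mapCotangent J (IsLocalRing.maximalIdeal L) (IsScalarTower.toAlgHom A A L) hmap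
  let e := IsLocalization.AtPrime.equivQuotMaximalIdealPow J L 2
  have he : ∀ x : A, e (Ideal.Quotient.mk _ x) = Ideal.Quotient.mk _ (algebraMap A L x) :=
    fun x => IsLocalization.AtPrime.equivQuotMaximalIdealPow_apply_mk J L 2 x
  have hg : Function.Bijective g := by
    constructor
    · rw [injective_iff_map_eq_zero]
      intro c hc
      obtain ⟨⟨x, hx⟩, rfl⟩ := J.toCotangent_surjective c
      rw [Ideal.mapCotangent_toCotangent, Ideal.toCotangent_eq_zero] at hc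
      rw [Ideal.toCotangent_eq_zero, ← Ideal.Quotient.eq_zero_iff_mem]
      apply e.injective
      rw [he, map_zero]
      exact Ideal.Quotient.eq_zero_iff_mem.mpr hc
    · intro c
      obtain ⟨⟨y, hy⟩, rfl⟩ := (IsLocalRing.maximalIdeal L).toCotangent_surjective c
      obtain ⟨z, hz⟩ := e.surjective (Ideal.Quotient.mk _ y)
      obtain ⟨x, rfl⟩ := Ideal.Quotient.mk_surjective z
      rw [he] at hz
      have hxy : algebraMap A L x - y ∈ IsLocalRing.maximalIdeal L ^ 2 := Ideal.Quotient.eq.mp hz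
      have hx : x ∈ J := by
        have : algebraMap A L x ∈ IsLocalRing.maximalIdeal L := by
          have := add_mem (Ideal.pow_le_self two_ne_zero hxy) hy
          rwa [sub_add_cancel] at this
        exact (IsLocalization.AtPrime.to_map_mem_maximal_iff L J x).mp this
      refine ⟨J.toCotangent ⟨x, hx⟩, ?_⟩
      rw [Ideal.mapCotangent_toCotangent, Ideal.toCotangent_eq]
      exact hxy
  let i : A ⧸ J ≃+* IsLocalRing.ResidueField L := IsLocalization.AtPrime.equivQuotMaximalIdeal J L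
  let g' : J.Cotangent ≃+ IsLocalRing.CotangentSpace L := AddEquiv.ofBijective g.toAddMonoidHom hg
  refine (congrArg Cardinal.toNat (rank_eq_of_equiv_equiv i g' i.bijective fun r v => ?_)).symm
  obtain ⟨r, rfl⟩ := Ideal.Quotient.mk_surjective r
  obtain ⟨y, rfl⟩ := J.toCotangent_surjective v
  show g (r • J.toCotangent y) = IsLocalRing.residue L (algebraMap A L r) • (show IsLocalRing.CotangentSpace L from g (J.toCotangent y))
  rw [map_smul, ← algebraMap_smul L r]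
  exact (algebraMap_smul (IsLocalRing.ResidueField L) (algebraMap A L r)
    (show IsLocalRing.CotangentSpace L from g (J.toCotangent y))).symm

variable {k : Type u} [Field k]

theorem bijective_toGlobal_line : Function.Bijective (Coh.toGlobal (CohB1.ProjSpace.toSpec 1 k)) := by
  letI := GlobalConst.algΓ k (X := CohB1.ProjSpace 1 k)
  have hfr : Module.finrank k Γ(CohB1.ProjSpace 1 k, ⊤) = 1 :=
    ((GlobalConst.h0Equiv k (X := CohB1.ProjSpace 1 k)).finrank_eq.symm).trans (ArSurf29.finrank_H0_P1 k)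
  haveI : Nontrivial Γ(CohB1.ProjSpace 1 k, ⊤) := Module.nontrivial_of_finrank_eq_succ (hfr.trans rfl)
  haveI : Nontrivial (Coh.Γtop (CohB1.ProjSpace 1 k)) := ‹Nontrivial Γ(CohB1.ProjSpace 1 k, ⊤)›
  refine ⟨(Coh.toGlobal (CohB1.ProjSpace.toSpec 1 k)).injective, fun y => ?_⟩
  obtain ⟨c, hc⟩ := (finrank_eq_one_iff_of_nonzero' (1 : Γ(CohB1.ProjSpace 1 k, ⊤)) one_ne_zero).1 hfr y
  exact ⟨c, ((Algebra.algebraMap_eq_smul_one c).trans hc :)⟩

variable {A : Type u} [CommRing A] {X : Scheme.{u}}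

theorem subsingleton_H1_gr (j : CohB1.ProjSpace 1 k ⟶ X) [IsClosedImmersion j]
    (hj : _root_.BlowUp.IsEffCartierIdeal j.ker) {δ : ℕ} (t : Gr j 1 ≅ Twist.twistProjSpace 1 k (δ : ℤ)) (m : ℕ) :
    Subsingleton (Coh.HH (CohB1.ProjSpace 1 k) (Gr j m) 1) := by
  refine subsingleton_H1_of_cls k (Ample.isInvertible_pullback j (isInvertible_pow j hj m)) (δ * m) ?_
  rw [cls_gr j hj m, pow_mul, ← cls_twist_pow k δ]
  exact congrArg (· ^ m) ((Cube.clsMod_eq_iff _ _).2 ⟨t⟩)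

variable [IsNoetherianRing A] (f : X ⟶ Spec (CommRingCat.of A)) [IsProper f] (happ : ∀ V, IsIso (f.app V))
  (j : CohB1.ProjSpace 1 k ⟶ X) [IsClosedImmersion j] (hj : _root_.BlowUp.IsEffCartierIdeal j.ker) {δ : ℕ}
  (t : Gr j 1 ≅ Twist.twistProjSpace 1 k (δ : ℤ)) (J : Ideal A) [J.IsMaximal]
  (hfib : Set.range j = {x | J ≤ (f x).asIdeal})
include happ hj t hfib

/-- Functions vanishing twice on the line are in the square of the maximal ideal. -/
theorem mem_sq :
    letI : X.Over (Spec (CommRingCat.of A)) := ⟨f⟩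
    ∀ (s : Fin (1 + 1) → A), (∀ i, s i ∈ J) → (∀ p, ∃ i, GenAt j (s i) p) →
      ∀ (r : A) (q : Γ(ClSub.idealMod (j.ker ^ (1 + 1)), ⊤)), val (j.ker ^ (1 + 1)) ⊤ q = gOn X r ⊤ → r ∈ J ^ 2 := by
  letI : X.Over (Spec (CommRingCat.of A)) := ⟨f⟩
  haveI : IsProper (X ↘ Spec (CommRingCat.of A)) := ‹IsProper f›
  haveI : IsIntegral (CohB1.ProjSpace 1 k) := ProjDim.isIntegral_proj _ 1
  intro s hsJ hgen r q hq
  have hker := ext_eq_ker j J hfib s hsJ hgen
  obtain ⟨g, hgJ, hgS⟩ := exists_shrink j J hfib s hsJ hgen hker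
  have hrJ : r ∈ J := (mem_iff j J hfib r).2 (by
    rw [← hq, ← val_idealIncl (pow_succ_le j.ker 1) ⊤ q]
    exact app_val_pow_one j _)
  let V0 : (Spec (CommRingCat.of A)).Opens := PrimeSpectrum.basicOpen g
  let A₁ := Localization.Away g
  let e := basicOpenIsoSpecAway (R := CommRingCat.of A) g
  let X₁ : Scheme.{u} := (f ⁻¹ᵁ V0).toScheme
  let f₁ : X₁ ⟶ Spec (CommRingCat.of A₁) := (f ∣_ V0) ≫ e.hom
  letI : X₁.Over (Spec (CommRingCat.of A₁)) := ⟨f₁⟩
  haveI : IsProper (f ∣_ V0) := IsZariskiLocalAtTarget.restrict ‹IsProper f› V0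
  haveI : IsProper (X₁ ↘ Spec (CommRingCat.of A₁)) := inferInstanceAs (IsProper ((f ∣_ V0) ≫ e.hom))
  let κ : X₁ ⟶ X := (f ⁻¹ᵁ V0).ι
  have hκ : (X₁ ↘ Spec (CommRingCat.of A₁)) ≫ Spec.map (CommRingCat.ofHom (algebraMap A A₁)) =
      κ ≫ (X ↘ Spec (CommRingCat.of A)) := by
    show ((f ∣_ V0) ≫ e.hom) ≫ _ = _
    rw [Category.assoc]
    erw [basicOpenIsoSpecAway_hom_SpecMap]
    exact morphismRestrict_ι f V0
  have hbij : Function.Bijective (Coh.toGlobal f₁) := by
    refine toGlobal_bijective_of_isIso f₁ ?_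
    haveI : IsIso (f ∣_ V0).appTop := by
      rw [morphismRestrict_appTop]
      haveI := happ (V0.ι ''ᵁ ⊤)
      infer_instance
    show IsIso ((f ∣_ V0) ≫ e.hom).appTop
    rw [Scheme.Hom.comp_appTop]
    infer_instance
  have hr : Set.range j ⊆ Set.range κ := by
    rw [Scheme.Opens.range_ι]
    rintro x hx
    show g ∉ (f x).asIdeal
    rw [← ‹J.IsMaximal›.eq_of_le (f x).isPrime.ne_top (hfib.le hx)]
    exact hgJ
  let j₁ := IsOpenImmersion.lift κ j hr
  have hj₁ : j₁ ≫ κ = j := IsOpenImmersion.lift_fac _ _ _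
  haveI : IsClosedImmersion (j₁ ≫ κ) := by rw [hj₁]; infer_instance
  haveI : IsClosedImmersion j₁ := IsClosedImmersion.of_comp j₁ κ
  have hcart := isEffCartier_restrict κ j j₁ hj₁ hj
  obtain ⟨t₁⟩ := nonempty_gr_one_restrict κ j j₁ hj₁ hj
  have hκy : ∀ y, PrimeSpectrum.comap (algebraMap A A₁) (f₁ y) = f (κ y) := fun y =>
    congrArg (fun φ => φ y) hκ
  have hfib₁ : Set.range j₁ = {y | J.map (algebraMap A A₁) ≤ ((X₁ ↘ Spec (CommRingCat.of A₁)) y).asIdeal} := by
    ext y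
    rw [Set.mem_setOf_eq, Ideal.map_le_iff_le_comap]
    show _ ↔ J ≤ (PrimeSpectrum.comap (algebraMap A A₁) (f₁ y)).asIdeal
    rw [hκy]
    refine Iff.trans ⟨fun hp => ?_, fun hp => ?_⟩ (Set.ext_iff.1 hfib (κ y))
    · obtain ⟨p, rfl⟩ := hp
      exact ⟨p, (congrArg (fun φ => φ p) hj₁).symm⟩
    · obtain ⟨p, hp⟩ := hp
      exact ⟨p, κ.isOpenEmbedding.injective ((congrArg (fun φ => φ p) hj₁).trans hp)⟩
  haveI : (J.map (algebraMap A A₁)).IsMaximal :=
    isMaximal_map g J (f₁ (j₁ (genericPoint (CohB1.ProjSpace 1 k)))) (hfib₁.le (Set.mem_range_self _))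
  obtain ⟨N₁, hN₁⟩ := exists_pow_le j₁ _ hfib₁
  obtain ⟨a₁, ha₁, hk⟩ := exists_annihilator j₁ hcart (J.map (algebraMap A A₁)) hN₁
    (subsingleton_H1_gr j₁ hcart (t₁ ≪≫ t)) 0
  have hI := genBy_restrict (algebraMap A A₁) κ hκ j j₁ hj₁ s fun y => hgS (κ y) y.2
  have hle := ext_map_le_pow (algebraMap A A₁) κ hκ j j₁ hj₁ hq
  obtain ⟨q₁, hq₁⟩ := exists_val_pow (j₁.ker ^ (0 + 1 + 1)) (gOn X₁ (algebraMap A A₁ r) ⊤) fun U => by
    rw [fres_gOn]
    exact mem_of_ext_le hle (Ideal.mem_map_of_mem _ (Ideal.mem_span_singleton_self r)) U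
  obtain ⟨v, hv⟩ := exists_combination_mul hI hcart a₁ hk q₁
  obtain ⟨u₀, hu₀⟩ := hbij.2 (val (j₁.ker ^ (0 + 1)) ⊤ (v 0))
  obtain ⟨u₁, hu₁⟩ := hbij.2 (val (j₁.ker ^ (0 + 1)) ⊤ (v 1))
  have hu : algebraMap A A₁ (s 0) * u₀ + algebraMap A A₁ (s 1) * u₁ = a₁ * algebraMap A A₁ r := by
    refine hbij.1 ?_
    rw [hq₁, ← hu₀, ← hu₁, gOn_top, gOn_top, gOn_top, gOn_top] at hv
    rw [map_add, map_mul, map_mul, map_mul]
    exact hv
  have huJ : ∀ (u : A₁) (x : Γ(ClSub.idealMod (j₁.ker ^ 1), ⊤)), Coh.toGlobal f₁ u = val (j₁.ker ^ 1) ⊤ x →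
      u ∈ J.map (algebraMap A A₁) := fun u x hux => (mem_iff j₁ _ hfib₁ u).2 (by
    rw [gOn_top, show Coh.toGlobal (X₁ ↘ Spec (CommRingCat.of A₁)) u = val (j₁.ker ^ 1) ⊤ x from hux]
    exact app_val_pow_one j₁ x)
  have hmem : algebraMap A A₁ r ∈ (J ^ 2).map (algebraMap A A₁) := by
    rw [Ideal.map_pow, pow_two, show algebraMap A A₁ r = a₁ * algebraMap A A₁ r - (a₁ - 1) * algebraMap A A₁ r by ring,
      ← hu]
    exact sub_mem (add_mem (Ideal.mul_mem_mul (Ideal.mem_map_of_mem _ (hsJ 0)) (huJ u₀ (v 0) hu₀))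
      (Ideal.mul_mem_mul (Ideal.mem_map_of_mem _ (hsJ 1)) (huJ u₁ (v 1) hu₁)))
      (Ideal.mul_mem_mul ha₁ (Ideal.mem_map_of_mem _ hrJ))
  rw [IsLocalization.algebraMap_mem_map_algebraMap_iff (Submonoid.powers g)] at hmem
  obtain ⟨m, hm, hmr⟩ := hmem
  obtain ⟨n, rfl⟩ := (Submonoid.mem_powers_iff _ _).1 hm
  obtain ⟨c, z, hz, ecz⟩ := ‹J.IsMaximal›.exists_inv fun h => hgJ (‹J.IsMaximal›.isPrime.mem_of_pow_mem n h)
  rw [show r = c * (g ^ n * r) + z * r by rw [← mul_assoc, ← add_mul, ecz, one_mul]]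
  exact add_mem (Ideal.mul_mem_left _ c hmr) (by rw [pow_two]; exact Ideal.mul_mem_mul hz hrJ)

/-- The cotangent space of the point under the line. -/
theorem finrank_cotangent : Module.finrank (A ⧸ J) J.Cotangent = δ + 1 := by
  letI : X.Over (Spec (CommRingCat.of A)) := ⟨f⟩
  haveI : IsProper (X ↘ Spec (CommRingCat.of A)) := ‹IsProper f›
  haveI : IsIntegral (CohB1.ProjSpace 1 k) := ProjDim.isIntegral_proj _ 1
  have hA : Function.Surjective (Coh.toGlobal (X ↘ Spec (CommRingCat.of A))) :=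
    (toGlobal_bijective_of_isIso f (happ ⊤)).2
  obtain ⟨N, hN⟩ := exists_pow_le j J hfib
  have hH := subsingleton_H1_gr j hj t
  have hJ := mem_iff j J hfib
  obtain ⟨θ, w, hS⟩ := exists_seq j hj 1
  have hθ := surjective_gr j hj J hN hH (fun r hr => (hJ r).1 hr) 1 hS
  have htb : ∀ W, Function.Bijective (t.inv.app W) := fun W =>
    ConcreteCategory.bijective_of_isIso ((Scheme.Modules.toPresheaf _).map t.inv |>.app (op W))
  -- two elements generating along the line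
  let G : Fin (1 + 1) → Γ(Twist.twistProjSpace 1 k (δ : ℤ), ⊤) := fun i =>
    gsec (CohB1.polyGrading 1 k) ((MvPolynomial.X i : MvPolynomial (Fin (1 + 1)) k) ^ δ)
      (Ample.ProjTwist.pow_mem (CohB1.polyGrading 1 k) (X_mem k i) δ)
  let S : Fin (1 + 1) → Γ(Gr j 1, j ⁻¹ᵁ ⊤) := fun i => t.inv.app ⊤ (G i)
  choose x₀ hx₀ using fun i => hθ (S i)
  choose s hs using fun i => hA (val (j.ker ^ 1) ⊤ (x₀ i))
  have hxs : ∀ i, val (j.ker ^ 1) ⊤ (x₀ i) = gOn X (s i) ⊤ := fun i => by rw [gOn_top]; exact (hs i).symm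
  have hsJ : ∀ i, s i ∈ J := fun i => (hJ _).2 (by rw [← hxs]; exact app_val_pow_one j (x₀ i))
  have hgen : ∀ p, ∃ i, GenAt j (s i) p := fun p => by
    obtain ⟨i, hi⟩ := Opens.mem_iSup.1 ((Ample.ProjMap.iSup_basicOpen_X 1 k).ge (trivial : p ∈ (⊤ : (CohB1.ProjSpace 1 k).Opens)))
    have h₀ : IsGen (Twist.twistProjSpace 1 k (δ : ℤ)) _ (mres (Twist.twistProjSpace 1 k (δ : ℤ)) le_top (G i)) :=
      GrTilde.isGen_gsec (𝒜 := CohB1.polyGrading 1 k) (N := δ) (Ample.ProjTwist.pow_mem (CohB1.polyGrading 1 k) (X_mem k i) δ)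
    have h := h₀.map t.inv fun V _ => htb V
    rw [← InvExt.mres_app] at h
    exact ⟨i, genAt_of_isGen j hj θ (s i) (x₀ i) (hxs i) p (Ample.ProjTwist.pow_notMem (CohB1.polyGrading 1 k) δ hi)
      (by rw [show down j (θ.app ⊤ (x₀ i)) = S i from hx₀ i]; exact h)⟩
  -- the semilinear map to the sections of the conormal sheaf
  choose x hx using fun r : J => exists_val_top j ((hJ r.1).1 r.2)
  let H0 := Coh.HH (CohB1.ProjSpace 1 k) (Twist.twistProjSpace 1 k (δ : ℤ)) 0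
  let η := ProjCoh.H0top (Twist.twistProjSpace 1 k (δ : ℤ))
  let ψ₀ : J → Γ(Twist.twistProjSpace 1 k (δ : ℤ), ⊤) := fun r => t.hom.app ⊤ (down j (θ.app ⊤ (x r)))
  have hψadd : ∀ r r' : J, ψ₀ (r + r') = ψ₀ r + ψ₀ r' := fun r r' => by
    have e : x (r + r') = x r + x r' := val_injective _ _ (by
      refine (hx (r + r')).trans (Eq.trans ?_ (map_add ((ClSub.idealModι _).app ⊤).hom _ _).symm)
      show gOn X (r.1 + r'.1) ⊤ = val _ ⊤ (x r) + val _ ⊤ (x r')
      rw [hx, hx, ← gHom_apply, ← gHom_apply, ← gHom_apply, map_add])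
    show t.hom.app ⊤ (down j (θ.app ⊤ (x (r + r')))) = _
    rw [e, map_add]
    exact map_add (t.hom.app ⊤).hom _ _
  have hψsmul : ∀ (a : A) (r : J), ψ₀ (a • r) = (show Γ(CohB1.ProjSpace 1 k, ⊤) from j.app ⊤ (gOn X a ⊤)) • ψ₀ r := fun a r => by
    have e : x (a • r) = gOn X a ⊤ • x r := val_injective _ _ (by
      rw [hx, val_smul, hx]
      show gOn X (a * r.1) ⊤ = _
      rw [← gHom_apply, ← gHom_apply, ← gHom_apply, map_mul])
    show t.hom.app ⊤ (down j (θ.app ⊤ (x (a • r)))) = _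
    rw [e, Scheme.Modules.Hom.app_smul]
    show t.hom.app ⊤ (j.app ⊤ (gOn X a ⊤) • down j (θ.app ⊤ (x r))) = _
    rw [Scheme.Modules.Hom.app_smul]
  let ψ : J →+ H0 := AddMonoidHom.mk' (fun r => η.symm (ψ₀ r)) fun r r' => by rw [hψadd, map_add]
  let cst : k ≃+* Γ(CohB1.ProjSpace 1 k, ⊤) := RingEquiv.ofBijective _ bijective_toGlobal_line
  let π : A →+* k := cst.symm.toRingHom.comp ((j.app ⊤).hom.comp (gHom X ⊤))
  have hπker : ∀ a, π a = 0 ↔ a ∈ J := fun a => by
    rw [hJ]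
    exact map_eq_zero_iff _ cst.symm.injective
  have hπsurj : Function.Surjective π := fun c => by
    obtain ⟨z, hz⟩ := surjective_app j hj J hN hH (fun r hr => (hJ r).1 hr) (cst c)
    obtain ⟨a, ha⟩ := hA z
    refine ⟨a, cst.injective ?_⟩
    show cst (cst.symm (j.app ⊤ (gOn X a ⊤))) = cst c
    rw [cst.apply_symm_apply, gOn_top, ha, hz]
  have hψπ : ∀ (a : A) (r : J), ψ (a • r) = π a • ψ r := fun a r => by
    apply η.injective
    rw [ProjCoh.H0top_smul]
    show η (η.symm _) = (show Γ(CohB1.ProjSpace 1 k, ⊤) from Coh.toGlobal (CohB1.ProjSpace.toSpec 1 k) (cst.symm (j.app ⊤ (gOn X a ⊤)))) • η (η.symm _)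
    rw [η.apply_symm_apply, η.apply_symm_apply, hψsmul]
    exact congrArg (· • ψ₀ r) (cst.apply_symm_apply _).symm
  have hψker : ∀ r : J, ψ r = 0 ↔ (r : A) ∈ J ^ 2 := fun r => by
    refine ⟨fun h => ?_, fun h => ?_⟩
    · have h0 : ψ₀ r = 0 := by
        have := congrArg η h
        rwa [show η (ψ r) = ψ₀ r from η.apply_symm_apply _, map_zero] at this
      have h1 : θ.app ⊤ (x r) = 0 :=
        (ConcreteCategory.bijective_of_isIso ((Scheme.Modules.toPresheaf _).map t.hom |>.app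
          (op (⊤ : (CohB1.ProjSpace 1 k).Opens)))).1 (h0.trans (map_zero (t.hom.app ⊤).hom).symm)
      obtain ⟨q, hq⟩ := exists_of_app_eq_zero (A := A) hS (x r) h1
      exact mem_sq f happ j hj t J hfib s hsJ hgen r.1 q
        (((val_idealIncl (pow_succ_le j.ker 1) ⊤ q).symm.trans (congrArg _ hq)).trans (hx r))
    · have key : ∀ y ∈ J * J, ∃ hy : y ∈ J, ψ ⟨y, hy⟩ = 0 := fun y hy => by
        refine Submodule.mul_induction_on hy (fun a ha b hb => ⟨J.mul_mem_left a hb, ?_⟩)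
          fun y y' ⟨hy, e⟩ ⟨hy', e'⟩ => ⟨add_mem hy hy', ?_⟩
        · rw [show (⟨a * b, J.mul_mem_left a hb⟩ : J) = a • (⟨b, hb⟩ : J) from rfl, hψπ, (hπker a).2 ha, zero_smul]
        · rw [show (⟨y + y', add_mem hy hy'⟩ : J) = ⟨y, hy⟩ + ⟨y', hy'⟩ from rfl, map_add, e, e', add_zero]
      obtain ⟨_, e⟩ := key r.1 (by rwa [← pow_two])
      exact e
  have hψsurj : Function.Surjective ψ := fun z => by
    obtain ⟨y, hy⟩ := hθ (t.inv.app ⊤ (η z))
    obtain ⟨a, ha⟩ := hA (val (j.ker ^ 1) ⊤ y)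
    have haJ : a ∈ J := (hJ a).2 (by rw [gOn_top, ha]; exact app_val_pow_one j y)
    refine ⟨⟨a, haJ⟩, η.injective ?_⟩
    show η (η.symm _) = _
    rw [η.apply_symm_apply, show ψ₀ ⟨a, haJ⟩ = t.hom.app ⊤ (down j (θ.app ⊤ y)) from
      congrArg (fun y => t.hom.app ⊤ (down j (θ.app ⊤ y))) (val_injective _ _ ((hx ⟨a, haJ⟩).trans (by rw [gOn_top, ha])))]
    show t.hom.app ⊤ (θ.app ⊤ y) = _
    rw [hy]
    exact congrArg (fun φ : Twist.twistProjSpace 1 k (δ : ℤ) ⟶ Twist.twistProjSpace 1 k (δ : ℤ) => φ.app ⊤ (η z)) t.inv_hom_id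
  have hq : ∀ r, J.toCotangent r = 0 ↔ ψ r = 0 := fun r => (Ideal.toCotangent_eq_zero J r).trans (hψker r).symm
  let Ψ : J.Cotangent →+ H0 := J.toCotangent.toAddMonoidHom.liftOfSurjective J.toCotangent_surjective
    ⟨ψ, fun r hr => (hq r).1 hr⟩
  have hΨ : ∀ r, Ψ (J.toCotangent r) = ψ r := fun r =>
    AddMonoidHom.liftOfRightInverse_comp_apply _ _ _ _ r
  have hΨbij : Function.Bijective Ψ := by
    refine ⟨(injective_iff_map_eq_zero Ψ).2 fun v hv => ?_, fun z => ?_⟩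
    · obtain ⟨r, rfl⟩ := J.toCotangent_surjective v
      exact (hq r).2 ((hΨ r).symm.trans hv)
    · obtain ⟨r, hr⟩ := hψsurj z
      exact ⟨_, (hΨ r).trans hr⟩
  have hibij : Function.Bijective (Ideal.Quotient.lift J π fun a ha => (hπker a).2 ha) := by
    refine ⟨(injective_iff_map_eq_zero _).2 fun a ha => ?_, fun c => ?_⟩
    · obtain ⟨a, rfl⟩ := Ideal.Quotient.mk_surjective a
      exact Ideal.Quotient.eq_zero_iff_mem.2 ((hπker a).1 ha)
    · obtain ⟨a, ha⟩ := hπsurj c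
      exact ⟨Ideal.Quotient.mk J a, ha⟩
  have hrank := rank_eq_of_equiv_equiv (Ideal.Quotient.lift J π fun a ha => (hπker a).2 ha)
    (AddEquiv.ofBijective Ψ hΨbij) hibij fun a v => by
      obtain ⟨a, rfl⟩ := Ideal.Quotient.mk_surjective a
      obtain ⟨r, rfl⟩ := J.toCotangent_surjective v
      show Ψ (a • J.toCotangent r) = π a • Ψ (J.toCotangent r)
      rw [← map_smul, hΨ, hΨ, hψπ]
  obtain ⟨q⟩ := ProjCohom.nonempty_HH_zero (n := 1) (R := k) δ
  rw [show Module.finrank (A ⧸ J) J.Cotangent = Module.finrank k H0 from congrArg Cardinal.toNat hrank,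
    q.finrank_eq]
  exact BinForm.finrank_forms k δ

end GrothLib.LineNeg29
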